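import Groth.Agent.Sibling.Induction

/-!
Induction on the cohomological amplitude: two siblings of a fully faithful functor are isomorphic.
-/

set_option autoImplicit false
set_option linter.style.haveILetI false

universe w v u v' u'

open CategoryTheory CategoryTheory.Limits CategoryTheory.Pretriangulated DerivedCategory

open ZeroObject

namespace Groth.Agent.Sibling

variable {A : Type u} [Category.{v} A] [Abelian A] [HasDerivedCategory.{w} A]
variable {D : Type u'} [Category.{v'} D] [Preadditive D] [HasZeroObject D] [HasShift D ℤ]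
  [∀ n : ℤ, (shiftFunctor D n).Additive] [Pretriangulated D]
  {F F' : Bounded A ⥤ D} [F.CommShift ℤ] [F'.CommShift ℤ]
  [F.IsTriangulated] [F'.IsTriangulated]

variable (η : DEquiv.singleB A ⋙ F ≅ DEquiv.singleB A ⋙ F')

/-- A compatible family of comparisons on objects of amplitude at most `n`. -/
structure Lev (n : ℕ) where
  s : ∀ (b : ℤ) (X : Bounded A), In (b - n) b X → (F.obj X ≅ F'.obj X)
  nat : ∀ (b : ℤ) (X Y : Bounded A) (hX : In (b - n) b X) (hY : In (b - n) b Y) (f : X ⟶ Y),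
    F.map f ≫ (s b Y hY).hom = (s b X hX).hom ≫ F'.map f
  adj : ∀ (b : ℤ) (X : Bounded A) (h : In (b - n) b X) (h' : In (b + 1 - n) (b + 1) X),
    (s b X h).hom = (s (b + 1) X h').hom
  pure : ∀ (b : ℤ) (X : Bounded A) (h : In b b X) (h' : In (b - n) b X),
    (s b X h').hom = (s₀ η b X h).hom

/-- The zeroth level. -/
noncomputable def lev₀ : Lev η 0 where
  s b X h := s₀ η b X (h.mono (by simp) le_rfl)
  nat b X Y hX hY f := s₀_natural b _ _ f
  adj b X h h' := by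
    have h0 : 𝟙 X = 0 := hom_eq_zero (lt_add_one b) h.2
      (h'.mono (m' := b + 1) (by simp) le_rfl).1 _
    have h1 : 𝟙 (F.obj X) = 0 := by rw [← F.map_id, h0, F.map_zero]
    exact ((IsZero.iff_id_eq_zero _).2 h1).eq_of_src _ _
  pure b X h h' := rfl

variable {η}

variable (h2 : ∀ K : Bounded A, Nonempty (F.obj K ≅ F'.obj K)) [F.Full]

omit [F'.CommShift ℤ] [F'.IsTriangulated] in
include h2 in
lemma eq_zero_transport {W V : Bounded A} (h : ∀ f : W ⟶ V, f = 0) (e : F.obj W ⟶ F'.obj V) :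
    e = 0 := by
  obtain ⟨ι⟩ := h2 V
  obtain ⟨f, hf⟩ := F.map_surjective (e ≫ ι.inv)
  rw [← cancel_mono ι.inv, ← hf, h f, F.map_zero, zero_comp]

include h2 in
lemma cancel_g {b : ℤ} {X W : Bounded A} (c : Cov b X) (hW : ∀ f : W ⟶ (SA A b).obj c.N, f = 0)
    (d : F.obj W ⟶ F'.obj X) (hd : d ≫ F'.map c.g = 0) : d = 0 := by
  obtain ⟨e, he⟩ := Triangle.coyoneda_exact₂ _ (F'.map_distinguished _ c.mem) d hd
  exact he.trans (by erw [eq_zero_transport h2 hW e, zero_comp]; rfl)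

variable {n : ℕ} (L : Lev η n) (hneg : ∀ X : A, ∃ (N : A) (p : N ⟶ X), Epi p ∧ ∀ f : X ⟶ N, f = 0)

/-- The square defining the comparison at the next level. -/
def Sq {b : ℤ} {X : Bounded A} (hX : In (b - (n + 1 : ℕ)) b X) (c : Cov b X)
    (t : F.obj X ⟶ F'.obj X) : Prop :=
  F.map c.g ≫ (L.s (b - 1) c.Z ((c.in_Z hX.1 (by lia)).mono (by lia) le_rfl)).hom =
    t ≫ F'.map c.g

omit [F.Full] in
lemma exists_sq {b : ℤ} {X : Bounded A} (hX : In (b - (n + 1 : ℕ)) b X) (c : Cov b X) :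
    ∃ t : F.obj X ⟶ F'.obj X, IsIso t ∧ Sq L hX c t ∧
      F.map c.i ≫ t = (s₀ η b _ (in_SA b c.N)).hom ≫ F'.map c.i := by
  have hN1 : In (b - 1) (b - 1) (((SA A b).obj c.N)⟦(1 : ℤ)⟧) :=
    in_shift (in_SA b c.N) 1 (b - 1) (b - 1) (by lia) (by lia)
  have hN1' : In (b - 1 - n) (b - 1) (((SA A b).obj c.N)⟦(1 : ℤ)⟧) := hN1.mono (by lia) le_rfl
  have hZ : In (b - 1 - n) (b - 1) c.Z := (c.in_Z hX.1 (by lia)).mono (by lia) le_rfl
  have hn := L.nat (b - 1) c.Z _ hZ hN1' c.δ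
  rw [L.pure _ _ hN1, s₀_shift b _ (in_SA b c.N)] at hn
  have hcomm : (F.mapTriangle.obj (Triangle.mk c.i c.g c.δ)).mor₃ ≫
      (s₀ η b _ (in_SA b c.N)).hom⟦(1 : ℤ)⟧' =
      (L.s (b - 1) c.Z hZ).hom ≫ (F'.mapTriangle.obj (Triangle.mk c.i c.g c.δ)).mor₃ := by
    show (F.map c.δ ≫ (F.commShiftIso (1 : ℤ)).hom.app ((SA A b).obj c.N)) ≫ _ =
      _ ≫ F'.map c.δ ≫ (F'.commShiftIso (1 : ℤ)).hom.app ((SA A b).obj c.N)
    erw [← reassoc_of% hn]
    simp only [Iso.inv_hom_id_app, Functor.comp_obj, Category.comp_id]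
    exact Category.assoc _ _ _
  obtain ⟨t, ht₁, ht₂⟩ := complete_distinguished_triangle_morphism₂ _ _
    (F.map_distinguished _ c.mem) (F'.map_distinguished _ c.mem) _ _ hcomm
  refine ⟨t, ?_, ht₂, ht₁⟩
  exact isIso₂_of_isIso₁₃ ⟨_, t, _, ht₁, ht₂, hcomm⟩
    (F.map_distinguished _ c.mem) (F'.map_distinguished _ c.mem)
    (s₀ η b _ (in_SA b c.N)).isIso_hom (L.s (b - 1) c.Z hZ).isIso_hom

variable {L}

include hneg h2 in
lemma sq_all {b : ℤ} {X : Bounded A} (hX : In (b - (n + 1 : ℕ)) b X) (c c' : Cov b X)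
    (t : F.obj X ⟶ F'.obj X) (ht : Sq L hX c t) : Sq L hX c' t := by
  obtain ⟨c₃, -, hk, hk'⟩ := exists_cov hneg b X X c.Z c'.Z hX.2 hX.2 c.g c'.g c.le c'.le
  obtain ⟨t₃, -, ht₃, -⟩ := exists_sq L hX c₃
  have key : ∀ d : Cov b X, c₃.i ≫ d.g = 0 → Sq L hX d t₃ := fun d hd => by
    obtain ⟨h, hh⟩ : ∃ h : c₃.Z ⟶ d.Z, d.g = c₃.g ≫ h :=
      Triangle.yoneda_exact₂ _ c₃.mem d.g hd
    unfold Sq at ht₃ ⊢
    rw [hh, F.map_comp, Category.assoc,
      L.nat (b - 1) c₃.Z d.Z ((c₃.in_Z hX.1 (by lia)).mono (by lia) le_rfl) _ h,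
      reassoc_of% ht₃, ← F'.map_comp]
  have h₁ : t = t₃ := sub_eq_zero.1 (cancel_g h2 c c.neg _ (by
    rw [Preadditive.sub_comp, sub_eq_zero]
    exact ht.symm.trans (key c hk)))
  exact h₁ ▸ key c' hk'

include hneg h2 in
lemma exists_t {b : ℤ} {X : Bounded A} (hX : In (b - (n + 1 : ℕ)) b X) :
    ∃ t : F.obj X ⟶ F'.obj X, IsIso t ∧ (∀ c, Sq L hX c t) ∧ ∃ c : Cov b X,
      F.map c.i ≫ t = (s₀ η b _ (in_SA b c.N)).hom ≫ F'.map c.i := by
  obtain ⟨c, -, -, -⟩ := exists_cov hneg b X X ((SA A (b - 1)).obj 0) ((SA A (b - 1)).obj 0)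
    hX.2 hX.2 0 0 (in_SA _ _).2 (in_SA _ _).2
  obtain ⟨t, hi, ht, ht'⟩ := exists_sq L hX c
  exact ⟨t, hi, fun c' => sq_all h2 hneg hX c c' t ht, c, ht'⟩

variable (L)

/-- The comparison at the next level. -/
noncomputable def next {b : ℤ} {X : Bounded A} (hX : In (b - (n + 1 : ℕ)) b X) :
    F.obj X ≅ F'.obj X :=
  haveI := (exists_t (L := L) h2 hneg hX).choose_spec.1
  asIso (exists_t (L := L) h2 hneg hX).choose

lemma next_sq {b : ℤ} {X : Bounded A} (hX : In (b - (n + 1 : ℕ)) b X) (c : Cov b X) :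
    Sq L hX c (next h2 L hneg hX).hom :=
  (exists_t (L := L) h2 hneg hX).choose_spec.2.1 c

lemma next_eq {b : ℤ} {X : Bounded A} (hX : In (b - (n + 1 : ℕ)) b X) (c : Cov b X)
    (t : F.obj X ⟶ F'.obj X) (ht : Sq L hX c t) : (next h2 L hneg hX).hom = t :=
  sub_eq_zero.1 (cancel_g h2 c c.neg _ (by
    rw [Preadditive.sub_comp, sub_eq_zero]
    exact (next_sq h2 L hneg hX c).symm.trans ht))

lemma next_nat {b : ℤ} {X Y : Bounded A} (hX : In (b - (n + 1 : ℕ)) b X)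
    (hY : In (b - (n + 1 : ℕ)) b Y) (f : X ⟶ Y) :
    F.map f ≫ (next h2 L hneg hY).hom = (next h2 L hneg hX).hom ≫ F'.map f := by
  obtain ⟨cY, hneg', -, -⟩ := exists_cov hneg b Y X ((SA A (b - 1)).obj 0) ((SA A (b - 1)).obj 0)
    hY.2 hX.2 0 0 (in_SA _ _).2 (in_SA _ _).2
  obtain ⟨cX, -, hk, -⟩ := exists_cov hneg b X X cY.Z cY.Z hX.2 hX.2 (f ≫ cY.g) (f ≫ cY.g)
    cY.le cY.le
  obtain ⟨h, hh⟩ : ∃ h : cX.Z ⟶ cY.Z, f ≫ cY.g = cX.g ≫ h :=
    Triangle.yoneda_exact₂ _ cX.mem _ hk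
  refine sub_eq_zero.1 (cancel_g h2 cY hneg' _ ?_)
  have sX := next_sq h2 L hneg hX cX
  have sY := next_sq h2 L hneg hY cY
  unfold Sq at sX sY
  rw [Preadditive.sub_comp, sub_eq_zero, Category.assoc, Category.assoc, ← sY, ← F.map_comp_assoc,
    ← F'.map_comp, hh, F.map_comp, Category.assoc,
    L.nat (b - 1) cX.Z cY.Z ((cX.in_Z hX.1 (by lia)).mono (by lia) le_rfl) _ h,
    reassoc_of% sX, F'.map_comp]

lemma next_pure {b : ℤ} {X : Bounded A} (h : In b b X) (hX : In (b - (n + 1 : ℕ)) b X) :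
    (next h2 L hneg hX).hom = (s₀ η b X h).hom := by
  obtain ⟨c, hc⟩ := (exists_t (L := L) h2 hneg hX).choose_spec.2.2
  change F.map c.i ≫ (next h2 L hneg hX).hom = _ at hc
  rw [← s₀_natural b (in_SA b c.N) h c.i, ← sub_eq_zero, ← Preadditive.comp_sub] at hc
  obtain ⟨e, he⟩ := Triangle.yoneda_exact₂ _ (F.map_distinguished _ c.mem) _ hc
  rw [eq_zero_transport h2 (fun f => hom_eq_zero (sub_one_lt b) c.le h.1 f) e] at he
  exact sub_eq_zero.1 (he.trans comp_zero)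

lemma next_ext {b : ℤ} {X : Bounded A} (h : In (b - n) b X) (hX : In (b - (n + 1 : ℕ)) b X) :
    (next h2 L hneg hX).hom = (L.s b X h).hom := by
  by_cases hn : n = 0
  · have h' : In b b X := h.mono (by lia) le_rfl
    rw [next_pure h2 L hneg h' hX, L.pure b X h' h]
  · obtain ⟨c, -, -, -⟩ := exists_cov hneg b X X ((SA A (b - 1)).obj 0) ((SA A (b - 1)).obj 0)
      hX.2 hX.2 0 0 (in_SA _ _).2 (in_SA _ _).2
    refine next_eq h2 L hneg hX c _ ?_
    have hZ : In (b - n) (b - 1) c.Z := c.in_Z h.1 (by lia)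
    unfold Sq
    rw [L.adj (b - 1) c.Z _ (hZ.mono (by lia) (by lia))]
    convert L.nat b X c.Z h (hZ.mono le_rfl (by lia)) c.g using 4
    lia

lemma next_low {b : ℤ} {X : Bounded A} (h : In (b - 1 - n) (b - 1) X)
    (hX : In (b - (n + 1 : ℕ)) b X) : (next h2 L hneg hX).hom = (L.s (b - 1) X h).hom := by
  obtain ⟨c, -, -, -⟩ := exists_cov hneg b X X ((SA A (b - 1)).obj 0) ((SA A (b - 1)).obj 0)
    hX.2 hX.2 0 0 (in_SA _ _).2 (in_SA _ _).2
  exact next_eq h2 L hneg hX c _ (L.nat (b - 1) X c.Z h _ c.g)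

/-- The next level. -/
noncomputable def Lev.succ : Lev η (n + 1) where
  s _ _ h := next h2 L hneg h
  nat _ _ _ hX hY f := next_nat h2 L hneg hX hY f
  adj b X h h' := by
    rw [next_ext h2 L hneg (h'.mono (m' := b - n) (by lia) le_rfl |> fun a => ⟨a.1, h.2⟩) h,
      next_low h2 L hneg (b := b + 1) ((show In (b + 1 - (n + 1 : ℕ)) b X from ⟨h'.1, h.2⟩).mono
        (by lia) (by lia)) h']
    congr! 1
    lia
  pure _ _ h h' := next_pure h2 L hneg h h'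

variable (η)

/-- All levels. -/
noncomputable def lev : ∀ n : ℕ, Lev η n
  | 0 => lev₀ η
  | n + 1 => (lev n).succ h2 hneg

/-- The comparison on objects with amplitude in `[-k, k]`. -/
noncomputable def σ (k : ℕ) (X : Bounded A) (h : In (-(k : ℤ)) k X) : F.obj X ≅ F'.obj X :=
  (lev η h2 hneg (2 * k)).s k X (h.mono (by lia) le_rfl)

lemma σ_succ (k : ℕ) (X : Bounded A) (h : In (-(k : ℤ)) k X) (h' : In (-((k + 1 : ℕ) : ℤ)) (k + 1 : ℕ) X) :
    (σ η h2 hneg (k + 1) X h').hom = (σ η h2 hneg k X h).hom := by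
  have e₁ := next_low h2 (lev η h2 hneg (2 * k + 1)) hneg (b := (k + 1 : ℕ)) (X := X)
    (h.mono (by lia) (by lia)) (h'.mono (by lia) le_rfl)
  refine e₁.trans ?_
  have e₂ := next_ext h2 (lev η h2 hneg (2 * k)) hneg (b := (k : ℤ)) (X := X)
    (h.mono (by lia) le_rfl) (h.mono (by lia) le_rfl)
  refine Eq.trans ?_ e₂
  have : ((k + 1 : ℕ) : ℤ) - 1 = k := by lia
  congr! 2

lemma σ_le (k k' : ℕ) (hk : k ≤ k') (X : Bounded A) (h : In (-(k : ℤ)) k X) :
    (σ η h2 hneg k' X (h.mono (by lia) (by lia))).hom = (σ η h2 hneg k X h).hom := by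
  induction k', hk using Nat.le_induction with
  | base => rfl
  | succ k' hk ih => exact (σ_succ η h2 hneg k' X (h.mono (by lia) (by lia)) _).trans ih

include h2 hneg η in
theorem nonempty_iso : Nonempty (F ≅ F') := by
  choose k hk using exists_in (A := A)
  refine ⟨NatIso.ofComponents (fun X => σ η h2 hneg (k X) X (hk X)) fun {X Y} f => ?_⟩
  rw [← σ_le η h2 hneg (k X) _ (le_max_left (k X) (k Y)) X (hk X),
    ← σ_le η h2 hneg (k Y) _ (le_max_right (k X) (k Y)) Y (hk Y)]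
  exact (lev η h2 hneg _).nat _ X Y _ _ f

end Groth.Agent.Sibling
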