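import Mathlib.Algebra.Homology.DerivedCategory.TStructure
import Mathlib.Algebra.Homology.DerivedCategory.FullyFaithful
import Mathlib.Algebra.Homology.DerivedCategory.HomologySequence

/-!
Covering the top cohomology of a complex by a single object, and killing morphisms out of it.
-/

set_option autoImplicit false

universe w v u

open CategoryTheory CategoryTheory.Limits CategoryTheory.Pretriangulated DerivedCategory

namespace Groth.Agent.Sibling

variable {A : Type u} [Category.{v} A] [Abelian A] [HasDerivedCategory.{w} A]

/-- An object covering the top cohomology. -/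
lemma exists_cover (X : DerivedCategory A) (b : ℤ) [X.IsLE b] :
    ∃ (N : A) (i : (singleFunctor A b).obj N ⟶ X), Epi ((homologyFunctor A b).map i) := by
  obtain ⟨K, _, ⟨e⟩⟩ := X.exists_iso_Q_obj_of_isLE b
  let j : (CochainComplex.singleFunctor A b).obj (K.X b) ⟶ K :=
    HomologicalComplex.mkHomFromSingle (𝟙 (K.X b))
      (fun i hi => (K.isZero_of_isStrictlyLE b i (by simp only [ComplexShape.up_Rel] at hi; lia)).eq_of_tgt _ _)
  have hj : Epi (HomologicalComplex.homologyMap j b) := by
    have hd : K.d b (b + 1) = 0 := (K.isZero_of_isStrictlyLE b _ (by lia)).eq_of_tgt _ _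
    haveI : IsIso (K.iCycles b) := K.isIso_iCycles b (b + 1) (by simp) hd
    haveI : Epi (HomologicalComplex.cyclesMap j b) := by
      have h0 : HomologicalComplex.cyclesMap j b ≫ K.iCycles b =
          ((CochainComplex.singleFunctor A b).obj (K.X b)).iCycles b ≫ j.f b :=
        HomologicalComplex.cyclesMap_i j b
      have hd' : ((CochainComplex.singleFunctor A b).obj (K.X b)).d b (b + 1) = 0 :=
        HomologicalComplex.single_obj_d ..
      haveI := ((CochainComplex.singleFunctor A b).obj (K.X b)).isIso_iCycles b (b + 1) (by simp) hd'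
      haveI : IsIso (j.f b) := by
        show IsIso ((HomologicalComplex.mkHomFromSingle (𝟙 (K.X b)) _).f b)
        rw [HomologicalComplex.mkHomFromSingle_f, Category.comp_id]
        infer_instance
      haveI : Epi (HomologicalComplex.cyclesMap j b ≫ K.iCycles b) := by rw [h0]; infer_instance
      rw [← Category.comp_id (HomologicalComplex.cyclesMap j b),
        ← IsIso.hom_inv_id (K.iCycles b), ← Category.assoc]
      infer_instance
    haveI : Epi (((CochainComplex.singleFunctor A b).obj (K.X b)).homologyπ b ≫
        HomologicalComplex.homologyMap j b) := by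
      rw [HomologicalComplex.homologyπ_naturality]
      infer_instance
    exact epi_of_epi (((CochainComplex.singleFunctor A b).obj (K.X b)).homologyπ b) _
  refine ⟨K.X b, (singleFunctorIsoCompQ A b).hom.app _ ≫ Q.map j ≫ e.inv, ?_⟩
  haveI : Epi ((homologyFunctor A b).map (Q.map j)) :=
    ((MorphismProperty.epimorphisms A).arrow_mk_iso_iff
      (Arrow.isoMk ((homologyFunctorFactors A b).app _) ((homologyFunctorFactors A b).app _)
        ((homologyFunctorFactors A b).hom.naturality j).symm)).2 hj
  rw [Functor.map_comp, Functor.map_comp]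
  infer_instance

/-- A morphism from a single object to something in lower degrees dies on an epimorphic cover. -/
lemma exists_kill (N : A) (b : ℤ) (Z : DerivedCategory A) [Z.IsLE (b - 1)]
    (α : (singleFunctor A b).obj N ⟶ Z) :
    ∃ (N' : A) (q : N' ⟶ N), Epi q ∧ (singleFunctor A b).map q ≫ α = 0 := by
  obtain ⟨L, _, ⟨e⟩⟩ := Z.exists_iso_Q_obj_of_isLE (b - 1)
  let ψ := (singleFunctorIsoCompQ A b).app N
  obtain ⟨K, hK, s, hs, g, hg⟩ := right_fac_of_isStrictlyLE
    (X := (CochainComplex.singleFunctor A b).obj N) (ψ.inv ≫ α ≫ e.hom) b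
  let j : (CochainComplex.singleFunctor A b).obj (K.X b) ⟶ K :=
    HomologicalComplex.mkHomFromSingle (𝟙 (K.X b))
      (fun i hi => (K.isZero_of_isStrictlyLE b i (by simp only [ComplexShape.up_Rel] at hi; lia)).eq_of_tgt _ _)
  obtain ⟨q, hq⟩ := (singleFunctor A b).map_surjective
    ((singleFunctorIsoCompQ A b).hom.app (K.X b) ≫ Q.map (j ≫ s) ≫ ψ.inv)
  refine ⟨K.X b, q, ?_, ?_⟩
  · have hjb : Epi (HomologicalComplex.homologyMap j b) := by
      have hd : K.d b (b + 1) = 0 := (K.isZero_of_isStrictlyLE b _ (by lia)).eq_of_tgt _ _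
      haveI := K.isIso_iCycles b (b + 1) (by simp) hd
      have hd' : ((CochainComplex.singleFunctor A b).obj (K.X b)).d b (b + 1) = 0 :=
        HomologicalComplex.single_obj_d ..
      haveI := ((CochainComplex.singleFunctor A b).obj (K.X b)).isIso_iCycles b (b + 1) (by simp) hd'
      haveI : IsIso (j.f b) := by
        show IsIso ((HomologicalComplex.mkHomFromSingle (𝟙 (K.X b)) _).f b)
        rw [HomologicalComplex.mkHomFromSingle_f, Category.comp_id]
        infer_instance
      haveI : IsIso (HomologicalComplex.cyclesMap j b ≫ K.iCycles b) := by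
        rw [HomologicalComplex.cyclesMap_i]; infer_instance
      haveI := IsIso.of_isIso_comp_right (HomologicalComplex.cyclesMap j b) (K.iCycles b)
      haveI : Epi (((CochainComplex.singleFunctor A b).obj (K.X b)).homologyπ b ≫
          HomologicalComplex.homologyMap j b) := by
        rw [HomologicalComplex.homologyπ_naturality]
        infer_instance
      exact epi_of_epi (((CochainComplex.singleFunctor A b).obj (K.X b)).homologyπ b) _
    haveI : Epi ((homologyFunctor A b).map (Q.map j)) :=
      ((MorphismProperty.epimorphisms A).arrow_mk_iso_iff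
        (Arrow.isoMk ((homologyFunctorFactors A b).app _) ((homologyFunctorFactors A b).app _)
          ((homologyFunctorFactors A b).hom.naturality j).symm)).2 hjb
    haveI : Epi ((homologyFunctor A b).map ((singleFunctor A b).map q)) := by
      rw [hq, Q.map_comp, Functor.map_comp, Functor.map_comp, Functor.map_comp]
      infer_instance
    exact ((MorphismProperty.epimorphisms A).arrow_mk_iso_iff
      (Arrow.isoMk ((singleFunctorCompHomologyFunctorIso A b).app _)
        ((singleFunctorCompHomologyFunctorIso A b).app _)
        ((singleFunctorCompHomologyFunctorIso A b).hom.naturality q).symm :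
          Arrow.mk ((homologyFunctor A b).map ((singleFunctor A b).map q)) ≅ Arrow.mk q)).1 this
  · have h0 : j ≫ g = 0 := HomologicalComplex.from_single_hom_ext
      ((L.isZero_of_isStrictlyLE (b - 1) b (by lia)).eq_of_tgt _ _)
    rw [← cancel_mono e.hom, zero_comp, hq, Category.assoc, Category.assoc, Category.assoc, hg,
      Q.map_comp, Category.assoc, IsIso.hom_inv_id_assoc, ← Q.map_comp, h0, Functor.map_zero,
      comp_zero]

/-- The cone of a map from a single object covering the top cohomology lives in lower degrees. -/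
lemma isLE_obj₃ {T : Triangle (DerivedCategory A)} (hT : T ∈ distinguishedTriangles) (b : ℤ)
    [T.obj₁.IsLE b] [T.obj₂.IsLE b] [Epi ((homologyFunctor A b).map T.mor₁)] :
    T.obj₃.IsLE (b - 1) := by
  rw [isLE_iff]
  intro i hi
  have h3 := HomologySequence.exact₃ T hT i (i + 1) rfl
  have hzero : IsZero ((homologyFunctor A (i + 1)).obj T.obj₁) := isZero_of_isLE T.obj₁ b _ (by lia)
  refine h3.isZero_X₂ ?_ (hzero.eq_of_tgt _ _)
  by_cases hib : i = b
  · subst hib
    exact (HomologySequence.epi_homologyMap_mor₁_iff T hT i).1 inferInstance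
  · exact (isZero_of_isLE T.obj₂ b i (by lia)).eq_of_src _ _

/-- Lower bound for the cone. -/
lemma isGE_obj₃ {T : Triangle (DerivedCategory A)} (hT : T ∈ distinguishedTriangles) (m b : ℤ)
    (hmb : m ≤ b - 1) [T.obj₁.IsGE b] [T.obj₂.IsGE m] : T.obj₃.IsGE m := by
  rw [isGE_iff]
  intro i hi
  exact (HomologySequence.exact₃ T hT i (i + 1) rfl).isZero_X₂
    ((isZero_of_isGE T.obj₂ m i hi).eq_of_src _ _)
    ((isZero_of_isGE T.obj₁ b (i + 1) (by lia)).eq_of_tgt _ _)

end Groth.Agent.Sibling
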