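import Groth.Prelude.Def_W4stkfunctorsequivSib
import Groth.Agent.Sibling.DKill
import Mathlib.CategoryTheory.Triangulated.Subcategory
import Mathlib.CategoryTheory.Triangulated.TStructure.TruncLTGE
import Mathlib.CategoryTheory.Limits.Shapes.BinaryBiproducts

/-!
Siblings of a fully faithful exact functor on a bounded derived category with enough negative objects.
-/

set_option autoImplicit false
set_option linter.style.haveILetI false

universe w v u v' u'

open CategoryTheory CategoryTheory.Limits CategoryTheory.Pretriangulated DerivedCategory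

namespace Groth.Agent.Sibling

variable {A : Type u} [Category.{v} A] [Abelian A] [HasDerivedCategory.{w} A]

/-- Bounded objects with cohomology in an interval. -/
def In (m b : ℤ) (X : Bounded A) : Prop := X.obj.IsGE m ∧ X.obj.IsLE b

lemma In.mono {m b m' b' : ℤ} {X : Bounded A} (h : In m b X) (h₁ : m' ≤ m) (h₂ : b ≤ b') : In m' b' X := by
  haveI := h.1
  haveI := h.2
  exact ⟨TStructure.t.isGE_of_ge X.obj m' m h₁, TStructure.t.isLE_of_le X.obj b b' h₂⟩

lemma exists_in (X : Bounded A) : ∃ k : ℕ, In (-(k : ℤ)) k X := by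
  obtain ⟨⟨m, hm⟩, ⟨b, hb⟩⟩ := X.property
  exact ⟨max m.natAbs b.natAbs, (show In m b X from ⟨hm, hb⟩).mono (by lia) (by lia)⟩

variable (A) in
/-- The single objects of the bounded derived category. -/
noncomputable def SA (b : ℤ) : A ⥤ Bounded A :=
  TStructure.t.bounded.lift (singleFunctor A b) (fun _ => ⟨⟨b, inferInstance⟩, ⟨b, inferInstance⟩⟩)

lemma in_SA (b : ℤ) (N : A) : In b b ((SA A b).obj N) :=
  ⟨show ((singleFunctor A b).obj N).IsGE b from inferInstance,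
    show ((singleFunctor A b).obj N).IsLE b from inferInstance⟩

instance (b : ℤ) : (SA A b).Full where
  map_surjective f := by
    obtain ⟨g, hg⟩ := (singleFunctor A b).map_surjective ((Bounded.ι).map f)
    exact ⟨g, (Bounded.ι).map_injective hg⟩

instance : (DEquiv.singleB A).Full where
  map_surjective f := by
    obtain ⟨g, hg⟩ := (singleFunctor A 0).map_surjective ((Bounded.ι).map f)
    exact ⟨g, (Bounded.ι).map_injective hg⟩

lemma in_shift {m b : ℤ} {X : Bounded A} (h : In m b X) (k m' b' : ℤ) (h₁ : k + m' = m)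
    (h₂ : k + b' = b) : In m' b' (X⟦k⟧) := by
  haveI := h.1
  haveI := h.2
  have h₁' : TStructure.t.IsGE (X.obj⟦k⟧) m' := TStructure.t.isGE_shift X.obj m k m' h₁
  have h₂' : TStructure.t.IsLE (X.obj⟦k⟧) b' := TStructure.t.isLE_shift X.obj b k b' h₂
  exact ⟨@Triangulated.TStructure.isGE_of_iso _ _ _ _ _ _ _ _ _ _ ((Bounded.ι.commShiftIso k).app X).symm m' h₁',
    @Triangulated.TStructure.isLE_of_iso _ _ _ _ _ _ _ _ _ _ ((Bounded.ι.commShiftIso k).app X).symm b' h₂'⟩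

lemma exists_pure (b : ℤ) (X : Bounded A) (h : In b b X) :
    ∃ H : A, Nonempty (X ≅ ((DEquiv.singleB A).obj H)⟦-b⟧) := by
  haveI := h.1
  haveI := h.2
  obtain ⟨H, ⟨e⟩⟩ := exists_iso_singleFunctor_obj_of_isGE_of_isLE X.obj b
  exact ⟨H, ⟨TStructure.t.bounded.fullyFaithfulι.preimageIso
    (e ≪≫ (((singleFunctors A).shiftIso (-b) b 0 (by lia)).app H).symm ≪≫
      ((Bounded.ι.commShiftIso (-b)).app ((DEquiv.singleB A).obj H)).symm)⟩⟩

lemma hom_eq_zero {X Y : Bounded A} {a b : ℤ} (hab : a < b) (hX : X.obj.IsLE a) (hY : Y.obj.IsGE b)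
    (f : X ⟶ Y) : f = 0 := by
  haveI : TStructure.t.IsLE (Bounded.ι.obj X) a := hX
  haveI : TStructure.t.IsGE (Bounded.ι.obj Y) b := hY
  exact Bounded.ι.map_injective
    ((TStructure.t.zero (Bounded.ι.map f) a b hab).trans (Functor.map_zero _ _ _).symm)

lemma eq_zero_of_cover {X Y : Bounded A} {N : A} (b : ℤ) (hX : X.obj.IsLE b) (hY : Y.obj.IsGE b)
    (i : (singleFunctor A b).obj N ⟶ X.obj) (hi : Epi ((homologyFunctor A b).map i))
    (f : X ⟶ Y) (h : i ≫ Bounded.ι.map f = 0) : f = 0 := by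
  obtain ⟨Z, g, δ, hT⟩ := distinguished_cocone_triangle i
  haveI : (Triangle.mk i g δ).obj₁.IsLE b := inferInstanceAs (((singleFunctor A b).obj N).IsLE b)
  haveI : (Triangle.mk i g δ).obj₂.IsLE b := hX
  haveI : Epi ((homologyFunctor A b).map (Triangle.mk i g δ).mor₁) := hi
  haveI : TStructure.t.IsLE (Triangle.mk i g δ).obj₃ (b - 1) := isLE_obj₃ hT b
  haveI : TStructure.t.IsGE (Bounded.ι.obj Y) b := hY
  obtain ⟨φ, hφ⟩ := Triangle.yoneda_exact₂ _ hT (Bounded.ι.map f) h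
  refine Bounded.ι.map_injective (hφ.trans ?_)
  rw [Functor.map_zero]
  erw [TStructure.t.zero φ (b - 1) b (by lia), comp_zero]
  rfl

/-- A triangle covering the top cohomology of `X` by a negative object. -/
structure Cov (b : ℤ) (X : Bounded A) where
  N : A
  Z : Bounded A
  i : (SA A b).obj N ⟶ X
  g : X ⟶ Z
  δ : Z ⟶ ((SA A b).obj N)⟦(1 : ℤ)⟧
  mem : Triangle.mk i g δ ∈ distinguishedTriangles
  le : Z.obj.IsLE (b - 1)
  neg : ∀ f : X ⟶ (SA A b).obj N, f = 0

lemma Cov.in_Z {b m : ℤ} {X : Bounded A} (c : Cov b X) (hX : X.obj.IsGE m) (hm : m ≤ b - 1) :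
    In m (b - 1) c.Z := by
  haveI := hX
  haveI := (in_SA b c.N).1
  have hT := Bounded.ι.map_distinguished _ c.mem
  haveI : (Bounded.ι.mapTriangle.obj (Triangle.mk c.i c.g c.δ)).obj₁.IsGE b := (in_SA b c.N).1
  haveI : (Bounded.ι.mapTriangle.obj (Triangle.mk c.i c.g c.δ)).obj₂.IsGE m := hX
  exact ⟨isGE_obj₃ hT m b hm, c.le⟩

lemma exists_cov (hneg : ∀ X : A, ∃ (N : A) (p : N ⟶ X), Epi p ∧ ∀ f : X ⟶ N, f = 0)
    (b : ℤ) (X Y Z₁ Z₂ : Bounded A) (hX : X.obj.IsLE b) (hY : Y.obj.IsLE b)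
    (α₁ : X ⟶ Z₁) (α₂ : X ⟶ Z₂) (h₁ : Z₁.obj.IsLE (b - 1)) (h₂ : Z₂.obj.IsLE (b - 1)) :
    ∃ c : Cov b X, (∀ f : Y ⟶ (SA A b).obj c.N, f = 0) ∧ c.i ≫ α₁ = 0 ∧ c.i ≫ α₂ = 0 := by
  haveI := hX
  haveI := hY
  haveI := h₁
  haveI := h₂
  obtain ⟨N₀, i₀, hi₀⟩ := exists_cover X.obj b
  obtain ⟨M₀, j₀, hj₀⟩ := exists_cover Y.obj b
  obtain ⟨N₁, q₁, hq₁, k₁⟩ := exists_kill N₀ b Z₁.obj (i₀ ≫ Bounded.ι.map α₁)
  obtain ⟨N₂, q₂, hq₂, k₂⟩ := exists_kill N₁ b Z₂.obj
    ((singleFunctor A b).map q₁ ≫ i₀ ≫ Bounded.ι.map α₂)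
  obtain ⟨N, p, hp, hpn⟩ := hneg (N₂ ⊞ M₀)
  haveI : Epi (p ≫ biprod.fst ≫ q₂ ≫ q₁) := inferInstance
  let i' : (singleFunctor A b).obj N ⟶ X.obj :=
    (singleFunctor A b).map (p ≫ biprod.fst ≫ q₂ ≫ q₁) ≫ i₀
  have hepi : ∀ {N' : A} (q : N' ⟶ N₀) [Epi q],
      Epi ((homologyFunctor A b).map ((singleFunctor A b).map q ≫ i₀)) := fun q _ => by
    haveI : Epi ((homologyFunctor A b).map ((singleFunctor A b).map q)) :=
      ((MorphismProperty.epimorphisms A).arrow_mk_iso_iff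
        (Arrow.isoMk ((singleFunctorCompHomologyFunctorIso A b).app _)
          ((singleFunctorCompHomologyFunctorIso A b).app _)
          ((singleFunctorCompHomologyFunctorIso A b).hom.naturality q).symm :
            Arrow.mk ((homologyFunctor A b).map ((singleFunctor A b).map q)) ≅ Arrow.mk q)).2 ‹_›
    rw [Functor.map_comp]
    infer_instance
  obtain ⟨i, hi⟩ := (Bounded.ι (C := A)).map_surjective (X := (SA A b).obj N) (Y := X) i'
  obtain ⟨Z, g, δ, hT⟩ := distinguished_cocone_triangle i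
  have hne : ∀ {W : Bounded A} {M : A} (j : (singleFunctor A b).obj M ⟶ W.obj),
      W.obj.IsLE b → Epi ((homologyFunctor A b).map j) → (∀ u : M ⟶ N, u = 0) →
      ∀ f : W ⟶ (SA A b).obj N, f = 0 := fun j hW hj hu f => by
    refine eq_zero_of_cover b hW (in_SA b N).1 j hj f ?_
    obtain ⟨u, hu'⟩ := (singleFunctor A b).map_surjective (j ≫ Bounded.ι.map f)
    exact hu'.symm.trans (((congrArg _ (hu u))).trans (Functor.map_zero _ _ _))
  refine ⟨⟨N, Z, i, g, δ, hT, ?_, ?_⟩, ?_, ?_, ?_⟩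
  · have hT' := Bounded.ι.map_distinguished _ hT
    haveI : (Bounded.ι.mapTriangle.obj (Triangle.mk i g δ)).obj₁.IsLE b := (in_SA b N).2
    haveI : (Bounded.ι.mapTriangle.obj (Triangle.mk i g δ)).obj₂.IsLE b := hX
    haveI : Epi ((homologyFunctor A b).map (Bounded.ι.mapTriangle.obj (Triangle.mk i g δ)).mor₁) := by
      show Epi ((homologyFunctor A b).map (Bounded.ι.map i))
      rw [hi]
      exact hepi _
    exact isLE_obj₃ hT' b
  · refine hne ((singleFunctor A b).map (q₂ ≫ q₁) ≫ i₀) hX (hepi _) fun u => ?_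
    have := hpn (biprod.fst ≫ u)
    rwa [← cancel_epi (biprod.fst : N₂ ⊞ M₀ ⟶ N₂), comp_zero]
  · refine hne j₀ hY hj₀ fun u => ?_
    have := hpn (biprod.snd ≫ u)
    rwa [← cancel_epi (biprod.snd : N₂ ⊞ M₀ ⟶ M₀), comp_zero]
  · refine Bounded.ι.map_injective ?_
    show Bounded.ι.map (i ≫ _) = _
    refine (Functor.map_comp _ _ _).trans ((congrArg (· ≫ _) hi).trans ?_)
    rw [Functor.map_zero]
    show i' ≫ (Bounded.ι.map α₁ : X.obj ⟶ _) = 0
    simp only [i', Functor.map_comp, Category.assoc]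
    erw [k₁, comp_zero, comp_zero, comp_zero]
  · refine Bounded.ι.map_injective ?_
    show Bounded.ι.map (i ≫ _) = _
    refine (Functor.map_comp _ _ _).trans ((congrArg (· ≫ _) hi).trans ?_)
    rw [Functor.map_zero]
    show i' ≫ (Bounded.ι.map α₂ : X.obj ⟶ _) = 0
    simp only [i', Functor.map_comp, Category.assoc]
    erw [k₂, comp_zero, comp_zero]

section Functors

variable {D : Type u'} [Category.{v'} D] [Preadditive D] [HasZeroObject D] [HasShift D ℤ]
  [∀ n : ℤ, (shiftFunctor D n).Additive] [Pretriangulated D]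
  {F F' : Bounded A ⥤ D} [F.CommShift ℤ] [F'.CommShift ℤ]
  (η : DEquiv.singleB A ⋙ F ≅ DEquiv.singleB A ⋙ F')

/-- The comparison on shifted single objects. -/
noncomputable def T (k : ℤ) (H : A) :
    F.obj (((DEquiv.singleB A).obj H)⟦k⟧) ≅ F'.obj (((DEquiv.singleB A).obj H)⟦k⟧) :=
  (F.commShiftIso k).app _ ≪≫ (shiftFunctor D k).mapIso (η.app H) ≪≫ ((F'.commShiftIso k).app _).symm

omit [Preadditive D] [HasZeroObject D] [∀ n : ℤ, (shiftFunctor D n).Additive] [Pretriangulated D] in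
lemma T_natural (k : ℤ) {H H' : A} (u : H ⟶ H') :
    F.map (((DEquiv.singleB A).map u)⟦k⟧') ≫ (T η k H').hom =
      (T η k H).hom ≫ F'.map (((DEquiv.singleB A).map u)⟦k⟧') := by
  simp only [T, Iso.trans_hom, Iso.app_hom, Functor.mapIso_hom, Iso.symm_hom, Iso.app_inv,
    Category.assoc]
  rw [F.commShiftIso_hom_naturality_assoc, ← F'.commShiftIso_inv_naturality,
    ← Functor.map_comp_assoc, ← Functor.map_comp_assoc]
  exact congrArg (fun z => _ ≫ (shiftFunctor D k).map z ≫ _) (η.hom.naturality u)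

variable {η}

omit [Preadditive D] [HasZeroObject D] [∀ n : ℤ, (shiftFunctor D n).Additive] [Pretriangulated D] in
lemma T_indep (k : ℤ) {X : Bounded A} {H H' : A} (e : X ≅ ((DEquiv.singleB A).obj H)⟦k⟧)
    (e' : X ≅ ((DEquiv.singleB A).obj H')⟦k⟧) :
    F.map e.hom ≫ (T η k H).hom ≫ F'.map e.inv = F.map e'.hom ≫ (T η k H').hom ≫ F'.map e'.inv := by
  obtain ⟨w, hw⟩ := (shiftFunctor (Bounded A) k).map_surjective (e.inv ≫ e'.hom)
  obtain ⟨u, rfl⟩ := (DEquiv.singleB A).map_surjective w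
  have h := T_natural η k u
  rw [hw] at h
  simp only [Functor.map_comp, Category.assoc] at h
  rw [← cancel_mono (F'.map e'.hom), Category.assoc, Category.assoc, Category.assoc, Category.assoc,
    ← F'.map_comp, ← F'.map_comp, e'.inv_hom_id, F'.map_id, Category.comp_id, F'.map_comp, ← h,
    ← F.map_comp_assoc, e.hom_inv_id, F.map_id, Category.id_comp]

omit [Preadditive D] [HasZeroObject D] [∀ n : ℤ, (shiftFunctor D n).Additive] [Pretriangulated D] in
lemma T_add (k k' : ℤ) (hk : k + 1 = k') (H : A) :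
    F.map ((shiftFunctorAdd' (Bounded A) k 1 k' hk).inv.app ((DEquiv.singleB A).obj H)) ≫
      (T η k' H).hom ≫
      F'.map ((shiftFunctorAdd' (Bounded A) k 1 k' hk).hom.app ((DEquiv.singleB A).obj H)) =
    (F.commShiftIso (1 : ℤ)).hom.app _ ≫ (T η k H).hom⟦(1 : ℤ)⟧' ≫
      (F'.commShiftIso (1 : ℤ)).inv.app _ := by
  have hn := (shiftFunctorAdd' D k 1 k' hk).hom.naturality (η.app H).hom
  simp only [T, Iso.trans_hom, Iso.app_hom, Functor.mapIso_hom, Iso.symm_hom, Iso.app_inv,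
    F.commShiftIso_add' hk, F'.commShiftIso_add' hk, Functor.CommShift.isoAdd'_hom_app,
    Functor.CommShift.isoAdd'_inv_app, Category.assoc, Functor.map_comp]
  rw [← F.map_comp_assoc, Iso.inv_hom_id_app, F.map_id]
  simp only [Functor.comp_obj, Category.id_comp, Category.assoc, ← F'.map_comp,
    Iso.inv_hom_id_app, F'.map_id, Category.comp_id]
  congr 2
  erw [reassoc_of% hn]
  erw [Iso.inv_hom_id_app_assoc]
  rfl

variable (η) in
/-- The comparison on objects concentrated in one degree. -/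
noncomputable def s₀ (b : ℤ) (X : Bounded A) (h : In b b X) : F.obj X ≅ F'.obj X :=
  F.mapIso (exists_pure b X h).choose_spec.some ≪≫ T η (-b) _ ≪≫
    F'.mapIso (exists_pure b X h).choose_spec.some.symm

omit [Preadditive D] [HasZeroObject D] [∀ n : ℤ, (shiftFunctor D n).Additive] [Pretriangulated D] in
lemma s₀_eq (b : ℤ) (X : Bounded A) (h : In b b X) {H : A}
    (e : X ≅ ((DEquiv.singleB A).obj H)⟦-b⟧) :
    (s₀ η b X h).hom = F.map e.hom ≫ (T η (-b) H).hom ≫ F'.map e.inv :=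
  T_indep _ _ e

omit [Preadditive D] [HasZeroObject D] [∀ n : ℤ, (shiftFunctor D n).Additive] [Pretriangulated D] in
lemma s₀_natural (b : ℤ) {X Y : Bounded A} (hX : In b b X) (hY : In b b Y) (f : X ⟶ Y) :
    F.map f ≫ (s₀ η b Y hY).hom = (s₀ η b X hX).hom ≫ F'.map f := by
  obtain ⟨H, ⟨e⟩⟩ := exists_pure b X hX
  obtain ⟨H', ⟨e'⟩⟩ := exists_pure b Y hY
  obtain ⟨w, hw⟩ := (shiftFunctor (Bounded A) (-b)).map_surjective (e.inv ≫ f ≫ e'.hom)
  obtain ⟨u, rfl⟩ := (DEquiv.singleB A).map_surjective w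
  have h := T_natural η (-b) u
  rw [hw] at h
  simp only [Functor.map_comp, Category.assoc] at h
  rw [s₀_eq b X hX e, s₀_eq b Y hY e', ← cancel_mono (F'.map e'.hom)]
  simp only [Category.assoc]
  rw [← F'.map_comp, e'.inv_hom_id, F'.map_id, Category.comp_id, ← h, ← F.map_comp_assoc e.hom,
    e.hom_inv_id, F.map_id, Category.id_comp]

omit [Preadditive D] [HasZeroObject D] [∀ n : ℤ, (shiftFunctor D n).Additive] [Pretriangulated D] in
lemma s₀_shift (b : ℤ) (X : Bounded A) (h : In b b X) (h' : In (b - 1) (b - 1) (X⟦(1 : ℤ)⟧)) :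
    (s₀ η (b - 1) _ h').hom = (F.commShiftIso (1 : ℤ)).hom.app X ≫ (s₀ η b X h).hom⟦(1 : ℤ)⟧' ≫
      (F'.commShiftIso (1 : ℤ)).inv.app X := by
  obtain ⟨H, ⟨e⟩⟩ := exists_pure b X h
  rw [s₀_eq (b - 1) _ h' ((shiftFunctor (Bounded A) (1 : ℤ)).mapIso e ≪≫
      ((shiftFunctorAdd' (Bounded A) (-b) 1 (-(b - 1)) (by lia)).app
        ((DEquiv.singleB A).obj H)).symm), s₀_eq b X h e]
  simp only [Iso.trans_hom, Iso.trans_inv, Functor.mapIso_hom, Functor.mapIso_inv, Iso.symm_hom,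
    Iso.symm_inv, Iso.app_hom, Iso.app_inv, Functor.map_comp, Category.assoc]
  erw [reassoc_of% (T_add (η := η) (-b) (-(b - 1)) (by lia) H)]
  erw [F.commShiftIso_hom_naturality_assoc, ← F'.commShiftIso_inv_naturality]

end Functors

end Groth.Agent.Sibling
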